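import Cfsg.Agent.Lib.Lie.Chev.Tw.Fischer.Rel1
import Cfsg.Agent.Lib.Lie.Chev.Tw.Fischer.SpanData

/-!
# The involutions b, …, i have only scalar commutant
-/

set_option autoImplicit false
set_option maxRecDepth 100000

namespace CfsgLib.Lie.Chev.Fischer

open Cfsg.Lie
open CfsgLib.Lie.Chev
open scoped MatrixGroups

/-- the bits of an entry -/
def entA (M : PM) (i j : ℕ) : Bool := M.1.testBit (624 * i + 8 * j)

/-- the bits of an entry -/
def entB (M : PM) (i j : ℕ) : Bool := M.2.testBit (624 * i + 8 * j)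

/-- the matrix is an outer product through the pivot -/
def outerChk (M : PM) (i0 j0 : ℕ) : Bool :=
  entA M i0 j0 && !entB M i0 j0 &&
    (List.range 78).all fun i => (List.range 78).all fun j =>
      (entA M i j == ((entA M i j0 && entA M i0 j) ^^ (entB M i j0 && entB M i0 j))) &&
        (entB M i j == (((entA M i j0 && entB M i0 j) ^^ (entB M i j0 && entA M i0 j)) ^^
          (entB M i j0 && entB M i0 j)))

/-- two columns agree -/
def colEq (S T : PM) (k p : ℕ) : Bool :=
  Nat.beq (colOf S.1 k) (colOf T.1 p) && Nat.beq (colOf S.2 k) (colOf T.2 p)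

/-- the image of the spanning vectors under a generator -/
def imgOf : ℕ → PM
  | 1 => TS1 | 2 => TS2 | 3 => TS3 | 4 => TS4 | 5 => TS5 | 6 => TS6 | 7 => TS7 | 8 => TS8
  | _ => TS1

theorem mask_true (s : ℕ) (hs : 1 ≤ s) : ∀ n i : ℕ, i < n → (maskN s n).testBit (s * i) = true
  | 0, i, h => absurd h (Nat.not_lt_zero _)
  | n + 1, i, h => by
    rw [maskN_succ s n hs, add_comm 1, Nat.testBit_two_pow_mul_add _ (Nat.one_lt_two_pow (by omega))]
    cases i with
    | zero => rw [Nat.mul_zero, if_pos (by omega)]; rfl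
    | succ i =>
      rw [if_neg (by rw [Nat.mul_succ]; omega), Nat.mul_succ, Nat.add_sub_cancel]
      exact mask_true s hs n i (by omega)

theorem colEq_spec {S T : PM} {k p : ℕ} (h : colEq S T k p = true) {i : ℕ} (hi : i < 78) :
    entA S i k = entA T i p ∧ entB S i k = entB T i p := by
  simp only [colEq, Bool.and_eq_true] at h
  have key : ∀ A B : ℕ, colOf A k = colOf B p →
      A.testBit (624 * i + 8 * k) = B.testBit (624 * i + 8 * p) := fun A B e => by
    have e' := congrArg (fun n : ℕ => n.testBit (624 * i)) e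
    simpa only [colOf, Nat.testBit_and, Nat.testBit_shiftRight, mask_true 624 (by norm_num) 78 i hi,
      Bool.and_true, Nat.add_comm] using e'
  exact ⟨key _ _ (Nat.eq_of_beq_eq_true h.1), key _ _ (Nat.eq_of_beq_eq_true h.2)⟩

theorem chk_pivot : Nat.blt piv.1 78 && Nat.blt piv.2 78 && outerChk P2 piv.1 piv.2 = true := by
  decide +kernel

theorem chk_root : (List.range 78).all (fun i =>
    (entA Smat i 0 == entA P2 i piv.2) && (entB Smat i 0 == entB P2 i piv.2)) = true := by
  decide +kernel

theorem chk_tree : (List.range 77).all (fun k =>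
    Nat.ble (spanTree.getD (k + 1) (0, 0)).2 k && Nat.ble 1 (spanTree.getD (k + 1) (0, 0)).1 &&
      Nat.ble (spanTree.getD (k + 1) (0, 0)).1 8 &&
      colEq Smat (imgOf (spanTree.getD (k + 1) (0, 0)).1) (k + 1) (spanTree.getD (k + 1) (0, 0)).2) =
    true := by
  decide +kernel

variable {K : Type*} [Field K] [CharP K 2] {w : K} (hw : w * w = w + 1)

include hw in
theorem commutant {z : GL chevE6.Idx K} (hz : ∀ i, 1 ≤ i → i ≤ 8 → z * xk w i = xk w i * z)
    (g : GL chevE6.Idx K) : z * g = g * z := by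
  set φ := Matrix.reindexAlgEquiv K K idxE
  set Z : Matrix (Fin 78) (Fin 78) K := φ (z : Matrix chevE6.Idx chevE6.Idx K)
  have hcomm : ∀ {i : ℕ} {X : PM}, Rep w (xk w i) X → 1 ≤ i → i ≤ 8 →
      Z * toM w X = toM w X * Z := fun {i X} hX h1 h8 => by
    have e := congrArg (fun u : GL chevE6.Idx K => φ (u : Matrix chevE6.Idx chevE6.Idx K)) (hz i h1 h8)
    simp only [Units.val_mul, map_mul] at e
    unfold Rep at hX
    rw [← hX]
    exact e
  have hN : ∀ {i : ℕ} {X N : PM}, Rep w (xk w i) X → 1 ≤ i → i ≤ 8 →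
      eqP (addP X oneP) N = true → Commute Z (toM w N) := fun {i X N} hX h1 h8 e => by
    obtain rfl := eq_of_eqP e
    rw [toM_addP, toM_oneP]
    exact (show Commute Z (toM w X) from hcomm hX h1 h8).add_right (Commute.one_right _)
  have hP : Commute Z (toM w P2) := by
    rw [← eq_of_eqP chkP2, toM_mulP w hw, ← eq_of_eqP chkP1, toM_mulP w hw, ← eq_of_eqP chkP0,
      toM_mulP w hw]
    exact (((hN (repK4 hw) (by norm_num) (by norm_num) chkN4).mul_right
      (hN (repK1 hw) (by norm_num) (by norm_num) chkN1)).mul_right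
      (hN (repK8 hw) (by norm_num) (by norm_num) chkN8)).mul_right
      (hN (repK6 hw) (by norm_num) (by norm_num) chkN6)
  have hpv := chk_pivot
  simp only [Bool.and_eq_true, Nat.blt_eq] at hpv
  obtain ⟨⟨hi0, hj0⟩, hout⟩ := hpv
  let i0 : Fin 78 := ⟨piv.1, hi0⟩
  let j0 : Fin 78 := ⟨piv.2, hj0⟩
  simp only [outerChk, Bool.and_eq_true, Bool.not_eq_true', List.all_eq_true, List.mem_range,
    beq_iff_eq, decide_eq_true_eq] at hout
  obtain ⟨⟨hA0, hB0⟩, hall⟩ := hout
  have h2 : (2 : K) = 0 := CharTwo.two_eq_zero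
  have hand : ∀ a b : Bool, (bz (a && b) : K) = bz a * bz b := bz_and
  have houter : ∀ i j : Fin 78, toM w P2 i j = toM w P2 i j0 * toM w P2 i0 j := by
    intro i j
    obtain ⟨e1, e2⟩ := hall i.1 i.2 j.1 j.2
    show bz (entA P2 i.1 j.1) + w * bz (entB P2 i.1 j.1) =
      (bz (entA P2 i.1 piv.2) + w * bz (entB P2 i.1 piv.2)) *
        (bz (entA P2 piv.1 j.1) + w * bz (entB P2 piv.1 j.1))
    rw [e1, e2, bz_xor, bz_xor, bz_xor]
    simp only [hand]
    linear_combination (-(bz (entB P2 i.1 piv.2) * bz (entB P2 piv.1 j.1))) * hw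
  have hpiv : toM w P2 i0 j0 = 1 := by
    show bz (entA P2 piv.1 piv.2) + w * bz (entB P2 piv.1 piv.2) = (1 : K)
    rw [hA0, hB0]
    simp [bz]
  set lam : K := ∑ k, toM w P2 i0 k * Z k j0
  have hu : ∀ i, ∑ k, Z i k * toM w P2 k j0 = lam * toM w P2 i j0 := by
    intro i
    have e := congrFun (congrFun hP.eq i) j0
    rw [Matrix.mul_apply, Matrix.mul_apply] at e
    rw [e, Finset.sum_mul]
    exact Finset.sum_congr rfl fun k _ => by rw [houter i k]; ring
  have himg : ∀ t, 1 ≤ t → t ≤ 8 → ∃ X : Matrix (Fin 78) (Fin 78) K,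
      Commute Z X ∧ toM w (imgOf t) = X * toM w Smat := by
    intro t h1 h8
    have key : ∀ {X T : PM}, Rep w (xk w t) X → eqP (mulP X Smat) T = true → imgOf t = T →
        ∃ M : Matrix (Fin 78) (Fin 78) K, Commute Z M ∧ toM w (imgOf t) = M * toM w Smat :=
      fun {X T} hX e eT => ⟨toM w X, hcomm hX h1 h8, by rw [eT, ← eq_of_eqP e, toM_mulP w hw]⟩
    interval_cases t
    · exact key (repK1 hw) chkTS1 rfl
    · exact key (repK2 hw) chkTS2 rfl
    · exact key (repK3 hw) chkTS3 rfl
    · exact key (repK4 hw) chkTS4 rfl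
    · exact key (repK5 hw) chkTS5 rfl
    · exact key (repK6 hw) chkTS6 rfl
    · exact key (repK7 hw) chkTS7 rfl
    · exact key (repK8 hw) chkTS8 rfl
  have hroot := chk_root
  simp only [List.all_eq_true, List.mem_range, Bool.and_eq_true, beq_iff_eq] at hroot
  have htree := chk_tree
  simp only [List.all_eq_true, List.mem_range, Bool.and_eq_true, Nat.ble_eq] at htree
  have hS : ∀ k : Fin 78, ∀ i, (Z * toM w Smat) i k = lam * toM w Smat i k := by
    intro k
    induction hk : k.val using Nat.strong_induction_on generalizing k with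
    | _ n ih =>
      intro i
      subst hk
      obtain ⟨n, hn⟩ := k
      cases n with
      | zero =>
        have e0 : ∀ l : Fin 78, toM w Smat l ⟨0, hn⟩ = toM w P2 l j0 := fun l => by
          show bz (entA Smat l.1 0) + w * bz (entB Smat l.1 0) =
            (bz (entA P2 l.1 piv.2) + w * bz (entB P2 l.1 piv.2) : K)
          rw [(hroot l.1 l.2).1, (hroot l.1 l.2).2]
        rw [Matrix.mul_apply]
        simp only [e0]
        exact hu i
      | succ m =>
        obtain ⟨⟨⟨hp, ht1⟩, ht8⟩, hcol⟩ := htree m (by omega)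
        set t := (spanTree.getD (m + 1) (0, 0)).1
        set p := (spanTree.getD (m + 1) (0, 0)).2
        obtain ⟨X, hX, himgX⟩ := himg t ht1 ht8
        have hp' : p < 78 := by omega
        have ec : ∀ l : Fin 78, toM w Smat l ⟨m + 1, hn⟩ = toM w (imgOf t) l ⟨p, hp'⟩ := fun l => by
          obtain ⟨a, b⟩ := colEq_spec hcol l.2
          show bz (entA Smat l.1 (m + 1)) + w * bz (entB Smat l.1 (m + 1)) =
            (bz (entA (imgOf t) l.1 p) + w * bz (entB (imgOf t) l.1 p) : K)
          rw [a, b]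
        have e1 : (Z * toM w Smat) i ⟨m + 1, hn⟩ = (Z * (X * toM w Smat)) i ⟨p, hp'⟩ := by
          rw [Matrix.mul_apply, Matrix.mul_apply (M := Z)]
          simp only [ec, himgX]
        rw [e1, ← mul_assoc, hX.eq, mul_assoc, ec, himgX, Matrix.mul_apply, Matrix.mul_apply,
          Finset.mul_sum]
        refine Finset.sum_congr rfl fun l _ => ?_
        rw [ih p (by show p < m + 1; omega) ⟨p, hp'⟩ rfl l]
        ring
  have hscal : Z = lam • 1 := by
    have e1 : Z * toM w Smat = lam • toM w Smat := by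
      ext i k
      rw [hS k i, Matrix.smul_apply, smul_eq_mul]
    have e2 : toM w Smat * toM w Sinv = (1 : Matrix (Fin 78) (Fin 78) K) := by
      rw [← toM_mulP w hw, eq_of_eqP chkS, toM_oneP]
    calc Z = Z * (toM w Smat * toM w Sinv) := by rw [e2, mul_one]
      _ = lam • 1 := by rw [← mul_assoc, e1, smul_mul_assoc, e2]
  refine Units.ext (φ.injective ?_)
  rw [Units.val_mul, Units.val_mul, map_mul, map_mul, show φ (z : Matrix _ _ K) = Z from rfl, hscal,
    smul_mul_assoc, one_mul, mul_smul_comm, mul_one]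

end CfsgLib.Lie.Chev.Fischer
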