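import Cfsg.Agent.Lib.Lie.Chev.Tw.Fischer.Rep

/-!
# Words in the generators of ²E₆(2) and the involutions conjugate to a root element
-/

set_option autoImplicit false
set_option maxRecDepth 100000

namespace CfsgLib.Lie.Chev.Fischer

open Cfsg.Lie
open CfsgLib.Lie.Chev
open CfsgLib.Lie.Chev.TE6 (C rt)
open scoped MatrixGroups

/-- the generators as words in root elements -/
def genL : List (List (Fin chevE6.nroots × ℕ)) :=
  [[(rt 46, 1)], [(rt 25, 1)], [(rt 39, 1)], [(rt 32, 1)],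
    [(rt 56, 1), (rt 36, 1)], [(rt 56, 2), (rt 36, 3)], [(rt 56, 3), (rt 36, 2)],
    [(rt 15, 1), (rt 35, 1)], [(rt 15, 2), (rt 35, 3)], [(rt 15, 3), (rt 35, 2)],
    [(rt 42, 1), (rt 37, 1)], [(rt 42, 2), (rt 37, 3)], [(rt 42, 3), (rt 37, 2)],
    [(rt 29, 1), (rt 34, 1)], [(rt 29, 2), (rt 34, 3)], [(rt 29, 3), (rt 34, 2)]]

variable {K : Type*} [Field K]

/-- a generator -/
noncomputable def gk (w : K) (k : ℕ) : GL chevE6.Idx K :=
  ((genL.getD k []).map fun p => C.G.xu p.1 (tv w p.2)).prod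

/-- the root element -/
noncomputable def x0 (w : K) : GL chevE6.Idx K := C.G.xu (rt 46) (tv w 1)

/-- an involution given by a word -/
noncomputable def xel (w : K) (l : List ℕ) : GL chevE6.Idx K :=
  l.foldr (fun k acc => gk w k * acc * gk w k) (x0 w)

variable [CharP K 2] {w : K}

theorem Rep.cast {g g' : GL chevE6.Idx K} {M : PM} (h : Rep w g M) (e : g = g') : Rep w g' M := e ▸ h

theorem Rep.step (hw : w * w = w + 1) {k : ℕ} {l : List ℕ} {G P T M : PM} (hG : Rep w (gk w k) G)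
    (hP : Rep w (xel w l) P) (h1 : eqP (mulP G P) T = true) (h2 : eqP (mulP T G) M = true) :
    Rep w (xel w (k :: l)) M :=
  (Rep.mul hw (Rep.mul hw hG hP h1) hG h2).cast rfl

theorem gk_one {r : Fin chevE6.nroots} (k c : ℕ) (h : genL.getD k [] = [(r, c)]) :
    gk w k = C.G.xu r (tv w c) := by
  rw [gk, h]; simp

theorem gk_two {r s : Fin chevE6.nroots} (k c d : ℕ) (h : genL.getD k [] = [(r, c), (s, d)]) :
    gk w k = C.G.xu r (tv w c) * C.G.xu s (tv w d) := by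
  rw [gk, h]; simp

theorem tv_one : tv w 1 = 1 := by simp [tv, bitA, bitB, bz]

variable [Fintype K] (θ : K ≃+* K) (hθ : ∀ x, θ x = x ^ 2)

include hθ in
theorem gk_mem (hw : w * w = w + 1) {k : ℕ} (hk : k < 16) : gk w k ∈ twistedE6 K 2 := by
  have h1 : θ (tv w 1) = tv w 1 := by rw [tv_one, map_one]
  have hs : ∀ c, tv w (sqC c) = θ (tv w c) := fun c => by rw [tv_sq hw, hθ, pow_two]
  have hp : ∀ (a b : Fin chevE6.nroots) (c : ℕ),
      C.G.xu a (tv w c) * C.G.xu b (tv w (sqC c)) = TE6.x2 θ a b (tv w c) := fun a b c => by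
    rw [hs]; rfl
  obtain ⟨s1, s2, s3, s4⟩ := TE6.single_mem θ hθ h1
  have p := fun c : ℕ => TE6.pair_mem θ hθ (tv w c)
  interval_cases k
  · exact gk_one (w := w) 0 1 rfl ▸ s1
  · exact gk_one (w := w) 1 1 rfl ▸ s2
  · exact gk_one (w := w) 2 1 rfl ▸ s3
  · exact gk_one (w := w) 3 1 rfl ▸ s4
  · rw [gk_two 4 1 (sqC 1) rfl, hp]; exact (p 1).2.2.1
  · rw [gk_two 5 2 (sqC 2) rfl, hp]; exact (p 2).2.2.1
  · rw [gk_two 6 3 (sqC 3) rfl, hp]; exact (p 3).2.2.1
  · rw [gk_two 7 1 (sqC 1) rfl, hp]; exact (p 1).2.2.2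
  · rw [gk_two 8 2 (sqC 2) rfl, hp]; exact (p 2).2.2.2
  · rw [gk_two 9 3 (sqC 3) rfl, hp]; exact (p 3).2.2.2
  · rw [gk_two 10 1 (sqC 1) rfl, hp]; exact (p 1).1
  · rw [gk_two 11 2 (sqC 2) rfl, hp]; exact (p 2).1
  · rw [gk_two 12 3 (sqC 3) rfl, hp]; exact (p 3).1
  · rw [gk_two 13 1 (sqC 1) rfl, hp]; exact (p 1).2.1
  · rw [gk_two 14 2 (sqC 2) rfl, hp]; exact (p 2).2.1
  · rw [gk_two 15 3 (sqC 3) rfl, hp]; exact (p 3).2.1

include hθ in
theorem xel_mem (hw : w * w = w + 1) : ∀ l : List ℕ, (∀ k ∈ l, k < 16) → xel w l ∈ twistedE6 K 2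
  | [], _ => by
    show C.G.xu (rt 46) (tv w 1) ∈ _
    exact (TE6.single_mem θ hθ (by rw [tv_one, map_one])).1
  | k :: l, h => mul_mem (mul_mem (gk_mem θ hθ hw (h k (by simp)))
      (xel_mem hw l fun j hj => h j (by simp [hj]))) (gk_mem θ hθ hw (h k (by simp)))

omit [Fintype K] in
theorem xel_conj (hinv : ∀ k, k < 16 → gk w k * gk w k = 1) : ∀ l : List ℕ, (∀ k ∈ l, k < 16) →
    xel w l * xel w l = 1
  | [], _ => by
    show C.G.xu (rt 46) (tv w 1) * C.G.xu (rt 46) (tv w 1) = 1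
    rw [← C.G.xu_add, CharTwo.add_self_eq_zero, C.G.xu_zero]
  | k :: l, h => by
    show gk w k * xel w l * gk w k * (gk w k * xel w l * gk w k) = 1
    rw [show gk w k * xel w l * gk w k * (gk w k * xel w l * gk w k) =
      gk w k * xel w l * (gk w k * gk w k) * xel w l * gk w k by simp only [mul_assoc],
      hinv k (h k (by simp)), mul_one, mul_assoc (gk w k) (xel w l) (xel w l),
      xel_conj hinv l fun j hj => h j (by simp [hj]), mul_one, hinv k (h k (by simp))]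

end CfsgLib.Lie.Chev.Fischer
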