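import Cfsg.Agent.Lib.Lie.Chev.Tw.Fischer.Rel1
import Cfsg.Agent.Lib.Lie.Chev.Tw.Fischer.Long
import Cfsg.Agent.Lib.Spor.Fi22.Final

/-!
# The Fischer group in ²E₆(2)
-/

set_option autoImplicit false
set_option maxRecDepth 100000

namespace CfsgLib.Lie.Chev.Fischer

open Cfsg.Lie
open Cfsg.Spor (coxLabel)
open Cfsg.Spor.Fi22 (Gen edges extra)
open CfsgLib.Lie.Chev
open CfsgLib.Lie.Chev.TE6 (C rt)
open scoped MatrixGroups

theorem rev {G : Type*} [Group G] {x y : G} {m : ℕ} (hx : x * x = 1) (hy : y * y = 1)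
    (h : (x * y) ^ m = 1) : (y * x) ^ m = 1 := by
  rw [show y * x = (x * y)⁻¹ by rw [mul_inv_rev, ← eq_inv_of_mul_eq_one_left hy, ← eq_inv_of_mul_eq_one_left hx],
    inv_pow, h, inv_one]

/-- the position of a generator -/
def gidx : Gen → ℕ
  | .a => 0 | .b => 1 | .c => 2 | .d => 3 | .e => 4 | .f => 5 | .g => 6 | .h => 7 | .i => 8

variable {K : Type*} [Field K] [CharP K 2] {w : K} (hw : w * w = w + 1)

include hw in
theorem pairRel : ∀ x y : Gen, (xk w (gidx x) * xk w (gidx y)) ^ coxLabel edges x y = 1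
  | .a, .a => by rw [show coxLabel edges Gen.a Gen.a = 1 by decide, pow_one]; exact sq0 hw
  | .a, .b => rel0_1 hw
  | .a, .c => rel0_2 hw
  | .a, .d => rel0_3 hw
  | .a, .e => rel0_4 hw
  | .a, .f => rel0_5 hw
  | .a, .g => rel0_6 hw
  | .a, .h => rel0_7 hw
  | .a, .i => rel0_8 hw
  | .b, .a => rev (sq0 hw) (sq1 hw) (rel0_1 hw)
  | .b, .b => by rw [show coxLabel edges Gen.b Gen.b = 1 by decide, pow_one]; exact sq1 hw
  | .b, .c => rel1_2 hw
  | .b, .d => rel1_3 hw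
  | .b, .e => rel1_4 hw
  | .b, .f => rel1_5 hw
  | .b, .g => rel1_6 hw
  | .b, .h => rel1_7 hw
  | .b, .i => rel1_8 hw
  | .c, .a => rev (sq0 hw) (sq2 hw) (rel0_2 hw)
  | .c, .b => rev (sq1 hw) (sq2 hw) (rel1_2 hw)
  | .c, .c => by rw [show coxLabel edges Gen.c Gen.c = 1 by decide, pow_one]; exact sq2 hw
  | .c, .d => rel2_3 hw
  | .c, .e => rel2_4 hw
  | .c, .f => rel2_5 hw
  | .c, .g => rel2_6 hw
  | .c, .h => rel2_7 hw
  | .c, .i => rel2_8 hw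
  | .d, .a => rev (sq0 hw) (sq3 hw) (rel0_3 hw)
  | .d, .b => rev (sq1 hw) (sq3 hw) (rel1_3 hw)
  | .d, .c => rev (sq2 hw) (sq3 hw) (rel2_3 hw)
  | .d, .d => by rw [show coxLabel edges Gen.d Gen.d = 1 by decide, pow_one]; exact sq3 hw
  | .d, .e => rel3_4 hw
  | .d, .f => rel3_5 hw
  | .d, .g => rel3_6 hw
  | .d, .h => rel3_7 hw
  | .d, .i => rel3_8 hw
  | .e, .a => rev (sq0 hw) (sq4 hw) (rel0_4 hw)
  | .e, .b => rev (sq1 hw) (sq4 hw) (rel1_4 hw)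
  | .e, .c => rev (sq2 hw) (sq4 hw) (rel2_4 hw)
  | .e, .d => rev (sq3 hw) (sq4 hw) (rel3_4 hw)
  | .e, .e => by rw [show coxLabel edges Gen.e Gen.e = 1 by decide, pow_one]; exact sq4 hw
  | .e, .f => rel4_5 hw
  | .e, .g => rel4_6 hw
  | .e, .h => rel4_7 hw
  | .e, .i => rel4_8 hw
  | .f, .a => rev (sq0 hw) (sq5 hw) (rel0_5 hw)
  | .f, .b => rev (sq1 hw) (sq5 hw) (rel1_5 hw)
  | .f, .c => rev (sq2 hw) (sq5 hw) (rel2_5 hw)
  | .f, .d => rev (sq3 hw) (sq5 hw) (rel3_5 hw)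
  | .f, .e => rev (sq4 hw) (sq5 hw) (rel4_5 hw)
  | .f, .f => by rw [show coxLabel edges Gen.f Gen.f = 1 by decide, pow_one]; exact sq5 hw
  | .f, .g => rel5_6 hw
  | .f, .h => rel5_7 hw
  | .f, .i => rel5_8 hw
  | .g, .a => rev (sq0 hw) (sq6 hw) (rel0_6 hw)
  | .g, .b => rev (sq1 hw) (sq6 hw) (rel1_6 hw)
  | .g, .c => rev (sq2 hw) (sq6 hw) (rel2_6 hw)
  | .g, .d => rev (sq3 hw) (sq6 hw) (rel3_6 hw)
  | .g, .e => rev (sq4 hw) (sq6 hw) (rel4_6 hw)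
  | .g, .f => rev (sq5 hw) (sq6 hw) (rel5_6 hw)
  | .g, .g => by rw [show coxLabel edges Gen.g Gen.g = 1 by decide, pow_one]; exact sq6 hw
  | .g, .h => rel6_7 hw
  | .g, .i => rel6_8 hw
  | .h, .a => rev (sq0 hw) (sq7 hw) (rel0_7 hw)
  | .h, .b => rev (sq1 hw) (sq7 hw) (rel1_7 hw)
  | .h, .c => rev (sq2 hw) (sq7 hw) (rel2_7 hw)
  | .h, .d => rev (sq3 hw) (sq7 hw) (rel3_7 hw)
  | .h, .e => rev (sq4 hw) (sq7 hw) (rel4_7 hw)
  | .h, .f => rev (sq5 hw) (sq7 hw) (rel5_7 hw)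
  | .h, .g => rev (sq6 hw) (sq7 hw) (rel6_7 hw)
  | .h, .h => by rw [show coxLabel edges Gen.h Gen.h = 1 by decide, pow_one]; exact sq7 hw
  | .h, .i => rel7_8 hw
  | .i, .a => rev (sq0 hw) (sq8 hw) (rel0_8 hw)
  | .i, .b => rev (sq1 hw) (sq8 hw) (rel1_8 hw)
  | .i, .c => rev (sq2 hw) (sq8 hw) (rel2_8 hw)
  | .i, .d => rev (sq3 hw) (sq8 hw) (rel3_8 hw)
  | .i, .e => rev (sq4 hw) (sq8 hw) (rel4_8 hw)
  | .i, .f => rev (sq5 hw) (sq8 hw) (rel5_8 hw)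
  | .i, .g => rev (sq6 hw) (sq8 hw) (rel6_8 hw)
  | .i, .h => rev (sq7 hw) (sq8 hw) (rel7_8 hw)
  | .i, .i => by rw [show coxLabel edges Gen.i Gen.i = 1 by decide, pow_one]; exact sq8 hw

include hw in
theorem rels : ∀ r ∈ Cfsg.Spor.coxRelators edges ∪ {r | r ∈ extra},
    FreeGroup.lift (fun x => xk w (gidx x)) r = 1 := by
  rintro r (⟨x, -, y, -, rfl⟩ | hr)
  · rw [map_pow, map_mul, FreeGroup.lift_apply_of, FreeGroup.lift_apply_of]
    exact pairRel hw x y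
  · simp only [Set.mem_setOf_eq, extra, List.mem_cons, List.not_mem_nil, or_false] at hr
    rcases hr with rfl | rfl | rfl
    all_goals simp only [map_pow, map_mul, FreeGroup.lift_apply_of, gidx]
    · exact long0 hw
    · exact long1 hw
    · exact long2 hw

/-- the homomorphism of the Fischer group -/
noncomputable def emb : Cfsg.Spor.Fi22 →* GL chevE6.Idx K := PresentedGroup.toGroup (rels hw)

theorem emb_of (x : Gen) : emb hw (PresentedGroup.of x) = xk w (gidx x) := PresentedGroup.toGroup.of _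

theorem emb_injective : Function.Injective (emb hw) := by
  haveI : IsSimpleGroup Cfsg.Spor.Fi22 := CfsgLib.Spor.Fi22.isFi22.1
  rcases (emb hw).normal_ker.eq_bot_or_eq_top with h | h
  · exact (MonoidHom.ker_eq_bot_iff _).1 h
  · have h' : emb hw (PresentedGroup.of Gen.d) = 1 := MonoidHom.mem_ker.1 (h ▸ Subgroup.mem_top _)
    rw [emb_of] at h'
    exact absurd ((C.G.xu_eq_one_iff (rt 46) (tv w 1)).1 h') (by rw [tv_one]; exact one_ne_zero)

variable [Fintype K] (θ : K ≃+* K) (hθ : ∀ x, θ x = x ^ 2)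

include hθ in
theorem emb_mem (a : Cfsg.Spor.Fi22) : emb hw a ∈ twistedE6 K 2 := by
  have h : (emb hw).range ≤ twistedE6 K 2 := by
    rw [MonoidHom.range_eq_map, ← PresentedGroup.closure_range_of, MonoidHom.map_closure,
      Subgroup.closure_le]
    rintro _ ⟨_, ⟨x, rfl⟩, rfl⟩
    rw [SetLike.mem_coe, emb_of]
    refine xel_mem θ hθ hw _ ?_
    cases x <;> decide
  exact h ⟨a, rfl⟩

end CfsgLib.Lie.Chev.Fischer
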