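import Cfsg.Agent.Lib.Lie.Chev.Tw.Out.CaseE6
import Cfsg.Agent.Lib.Lie.Chev.Tw.FoldE6
import Cfsg.Prelude.Def_KGroupFacts

/-!
# Three classes of images of a subgroup with scalar commutant
-/

set_option autoImplicit false
set_option maxRecDepth 100000

namespace CfsgLib.Lie.Chev.Fischer

open Cfsg.Lie
open CfsgLib.Lie.Chev
open scoped MatrixGroups

/-- if the outer group has order two, every square of an automorphism is inner -/
theorem sq_inner {A : Type*} [Group A] (h : Nat.card (Cfsg.Out A) = 2) (α : MulAut A) :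
    ∃ b, α * α = MulAut.conj b := by
  have h1 := pow_card_eq_one' (x := (QuotientGroup.mk α : Cfsg.Out A))
  rw [h, pow_two, ← QuotientGroup.mk_mul, QuotientGroup.eq_one_iff] at h1
  obtain ⟨b, hb⟩ := h1
  exact ⟨b, hb.symm⟩

variable {K : Type*} [Field K] [CharP K 2] [Fintype K]

theorem three_images (hK : Fintype.card K = 4) {A : Type*} [Group A] [Finite A]
    (hsq : ∀ α : MulAut A, ∃ b, α * α = MulAut.conj b) (ρ : A →* GL chevE6.Idx K)
    (hρ : Function.Injective ρ) (hmem : ∀ a, ρ a ∈ twistedE6 K 2)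
    (hcomm : ∀ z : GL chevE6.Idx K, (∀ a, z * ρ a = ρ a * z) → ∀ g, z * g = g * z) :
    ∃ H : Fin 3 → Subgroup ↥(twistedE6 K 2),
      (∀ i, Nonempty ((H i) ≃* A)) ∧
      ∀ i j, i ≠ j → ∀ g : ↥(twistedE6 K 2),
        (H i).map (MulAut.conj g).toMonoidHom ≠ H j := by
  classical
  have hq : IsPrimePow 2 := Nat.prime_two.isPrimePow
  have hK' : Fintype.card K = 2 ^ 2 := hK.trans rfl
  obtain ⟨θ, hθ⟩ := Frob.exists_powEquiv (K := K) hq hK'
  have h2 : ∀ t : K, θ (θ t) = t := fun t => by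
    rw [hθ, hθ, ← pow_mul, show 2 * 2 = Fintype.card K by rw [hK], FiniteField.pow_card]
  set P := TE6.twGp θ hθ h2
  set Q := TE6.twPar θ hθ h2
  -- an outer torus element
  have hP : Nat.card ↥(TwPar.parGrp (TE6.twist θ)) = 9 := by
    let P1 := {u : Kˣ // (u : K) ^ 2 = (u : K)}
    have hb : Function.Bijective (fun x : (P1 × P1) × (Kˣ × Kˣ) =>
        (⟨TE6.par θ x.1.1.1 x.1.2.1 x.2.1 x.2.2,
          TE6.par_fixed θ h2 ((hθ _).trans x.1.1.2) ((hθ _).trans x.1.2.2)⟩ :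
            ↥(TwPar.parGrp (TE6.twist θ)))) := by
      refine ⟨?_, ?_⟩
      · rintro ⟨⟨a, b⟩, c, d⟩ ⟨⟨a', b'⟩, c', d'⟩ e
        have e' := congrArg Subtype.val e
        simp only at e'
        obtain ⟨v1, v3, v2, -, v0, -⟩ := TE6.par_vals θ a.1 b.1 c d
        obtain ⟨w1, w3, w2, -, w0, -⟩ := TE6.par_vals θ a'.1 b'.1 c' d'
        rw [e'] at v1 v3 v2 v0
        exact Prod.ext (Prod.ext (Subtype.ext (v1.symm.trans w1)) (Subtype.ext (v3.symm.trans w3)))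
          (Prod.ext (v2.symm.trans w2) (v0.symm.trans w0))
      · rintro ⟨c, hc⟩
        obtain ⟨f1, f3, -, -⟩ := TE6.fixed_params θ hc
        exact ⟨((⟨c (TE6.nd 1), (hθ _).symm.trans f1⟩, ⟨c (TE6.nd 3), (hθ _).symm.trans f3⟩),
          c (TE6.nd 2), c (TE6.nd 0)), Subtype.ext (TE6.eq_par θ hc).symm⟩
    rw [← Nat.card_eq_of_bijective _ hb]
    simp only [Nat.card_prod, P1, card_fixed_units hq hK']
    rw [Nat.card_units, Nat.card_eq_fintype_card, hK]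
  have hH3 : Nat.card ↥(chevE6.diagonalSubgroup K ⊓ twistedE6 K 2) = 3 := by
    have h := (TE6.summary hq hK').2.2.1
    rw [show Nat.gcd 3 (2 + 1) = 3 from rfl] at h
    generalize Nat.card ↥(chevE6.diagonalSubgroup K ⊓ twistedE6 K 2) = N at h ⊢
    norm_num at h
    omega
  obtain ⟨c, hc⟩ : ∃ c : ↥(TwPar.parGrp (TE6.twist θ)), TE6.C.G.tor c.1 ∉ twistedE6 K 2 := by
    by_contra hall
    push Not at hall
    have hd : ∀ c : ↥(TwPar.parGrp (TE6.twist θ)),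
        TE6.C.G.tor c.1 ∈ chevE6.diagonalSubgroup K ⊓ twistedE6 K 2 := fun c => by
      refine (Q.fieldG_eq_one ⟨TE6.k2, TE6.outF2 θ⟩ (τ := 1) (x := ⟨_, inv_mem (hall c)⟩)
        (c := c) ?_).2
      refine MulEquiv.ext fun y => Subtype.ext ?_
      rw [map_one]
      show (y : GL chevE6.Idx K) = (TE6.C.G.tor c.1)⁻¹ *
        (TE6.C.G.tor c.1 * (y : GL chevE6.Idx K) * (TE6.C.G.tor c.1)⁻¹) * (TE6.C.G.tor c.1)⁻¹⁻¹
      group
    have hle := Nat.card_le_card_of_injective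
      (fun c => (⟨TE6.C.G.tor c.1, hd c⟩ : ↥(chevE6.diagonalSubgroup K ⊓ twistedE6 K 2)))
      fun a b e => Subtype.ext (by
        rw [← mul_inv_eq_one]
        refine TE6.C.G.tor_eq_one ?_
        rw [map_mul, map_inv, mul_inv_eq_one]
        exact congrArg Subtype.val e)
    omega
  set t := TE6.C.G.tor c.1
  have h9 : t ^ 9 = 1 := by
    have h := congrArg Subtype.val (pow_card_eq_one' (x := c))
    rw [hP] at h
    rw [← map_pow, show c.1 ^ 9 = 1 from h, map_one]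
  let φ : Fin 3 → (A →* ↥(twistedE6 K 2)) := fun i =>
    ((Q.torGHom (c ^ i.val)).toMonoidHom).comp (ρ.codRestrict _ hmem)
  have hφ : ∀ i a, (φ i a : GL chevE6.Idx K) = t ^ i.val * ρ a * (t ^ i.val)⁻¹ := fun i a => by
    show TE6.C.G.tor ((c ^ i.val : ↥(TwPar.parGrp (TE6.twist θ))) : Fin chevE6.rank → Kˣ) * _ *
      (TE6.C.G.tor _)⁻¹ = _
    rw [Subgroup.coe_pow, map_pow]
    rfl
  refine ⟨fun i => (φ i).range, fun i => ?_, fun i j hij g e => ?_⟩
  · refine ⟨((MonoidHom.ofInjective (f := φ i) fun a b h => ?_)).symm⟩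
    have h' := congrArg Subtype.val h
    rw [hφ, hφ, mul_left_inj, mul_right_inj] at h'
    exact hρ h'
  obtain ⟨k, m, hk, hkm⟩ : ∃ k m : ℕ, j.val + k = 9 + i.val ∧ 2 * k * m % 9 = 1 := by
    have key : ∀ i j : Fin 3, i ≠ j → ∃ m : Fin 9, 2 * (9 + i.val - j.val) * m.val % 9 = 1 := by
      decide
    obtain ⟨m, hm⟩ := key i j hij
    exact ⟨9 + i.val - j.val, m.val, by omega, hm⟩
  have hk' : t ^ i.val = t ^ j.val * t ^ k := by rw [← pow_add, hk, pow_add, h9, one_mul]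
  -- the element normalising the image
  set g' := (Q.torGHom (c ^ j.val))⁻¹ g
  have hg' : (g' : GL chevE6.Idx K) = (t ^ j.val)⁻¹ * (g : GL chevE6.Idx K) * t ^ j.val := by
    show ((Q.torGHom (c ^ j.val))⁻¹ g : ↥(twistedE6 K 2)).1 = _
    rw [← map_inv]
    show TE6.C.G.tor ((c ^ j.val)⁻¹ : ↥(TwPar.parGrp (TE6.twist θ))).1 * _ *
      (TE6.C.G.tor _)⁻¹ = _
    rw [Subgroup.coe_inv, Subgroup.coe_pow, map_inv, map_pow, inv_inv]
  set u := (g' : GL chevE6.Idx K) * t ^ k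
  have hu : ∀ a, ∃ b, ρ b = u * ρ a * u⁻¹ := fun a => by
    obtain ⟨b, hb⟩ : MulAut.conj g (φ i a) ∈ (φ j).range := e.le ⟨_, ⟨_, rfl⟩, rfl⟩
    refine ⟨b, ?_⟩
    have h' := congrArg Subtype.val hb
    rw [hφ, MulAut.conj_apply, Subgroup.coe_mul, Subgroup.coe_mul, Subgroup.coe_inv, hφ, hk'] at h'
    calc ρ b = (t ^ j.val)⁻¹ * (t ^ j.val * ρ b * (t ^ j.val)⁻¹) * t ^ j.val := by group
      _ = u * ρ a * u⁻¹ := by rw [h']; simp only [u, hg']; group
  choose α₀ hα₀ using hu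
  let α₁ : A →* A := MonoidHom.mk' α₀ fun a b => hρ (by
    simp only [map_mul, hα₀]
    group)
  have hα₁ : Function.Injective α₁ := fun a b h => hρ (by
    have h' := congrArg ρ h
    simp only [α₁, MonoidHom.mk'_apply, hα₀, mul_left_inj, mul_right_inj] at h'
    exact h')
  let α : MulAut A := MulEquiv.ofBijective α₁ (Finite.injective_iff_bijective.1 hα₁)
  obtain ⟨b, hb⟩ := hsq α
  have hz := hcomm ((ρ b)⁻¹ * (u * u)) fun a => by
    have h1 : ρ (α₀ (α₀ a)) = ρ (b * a * b⁻¹) :=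
      congrArg ρ (DFunLike.congr_fun hb a)
    rw [hα₀, hα₀, map_mul, map_mul, map_inv] at h1
    calc (ρ b)⁻¹ * (u * u) * ρ a
        = (ρ b)⁻¹ * (u * (u * ρ a * u⁻¹) * u⁻¹) * (u * u) := by group
      _ = ρ a * ((ρ b)⁻¹ * (u * u)) := by rw [h1]; group
  -- the outer part is inner
  set x : ↥(twistedE6 K 2) := (⟨ρ b, hmem b⟩ : ↥(twistedE6 K 2))⁻¹ * (g' * Q.torGHom (c ^ k) g')
  have hx : (ρ b)⁻¹ * (u * u) = (x : GL chevE6.Idx K) * t ^ (2 * k) := by
    have h' : ((Q.torGHom (c ^ k) g' : ↥(twistedE6 K 2)) : GL chevE6.Idx K) =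
        t ^ k * (g' : GL chevE6.Idx K) * (t ^ k)⁻¹ := by
      show TE6.C.G.tor ((c ^ k : ↥(TwPar.parGrp (TE6.twist θ))) : Fin chevE6.rank → Kˣ) * _ *
        (TE6.C.G.tor _)⁻¹ = _
      rw [Subgroup.coe_pow, map_pow]
    simp only [x, Subgroup.coe_mul, Subgroup.coe_inv, h', two_mul, pow_add, u]
    group
  have ht : t ^ (2 * k) ∈ twistedE6 K 2 := by
    rw [← map_pow, ← Subgroup.coe_pow]
    refine (Q.fieldG_eq_one ⟨TE6.k2, TE6.outF2 θ⟩ (τ := 1) (x := x) (c := c ^ (2 * k)) ?_).2.2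
    refine MulEquiv.ext fun y => Subtype.ext ?_
    rw [map_one]
    show (y : GL chevE6.Idx K) = (x : GL chevE6.Idx K) *
      (TE6.C.G.tor (c ^ (2 * k)).1 * (y : GL chevE6.Idx K) * (TE6.C.G.tor (c ^ (2 * k)).1)⁻¹) *
      (x : GL chevE6.Idx K)⁻¹
    rw [Subgroup.coe_pow, map_pow]
    calc (y : GL chevE6.Idx K)
        = ((ρ b)⁻¹ * (u * u)) * y * ((ρ b)⁻¹ * (u * u))⁻¹ := by rw [hz y]; group
      _ = _ := by rw [hx]; group; rfl
  refine hc ?_
  have ht' : t = (t ^ (2 * k)) ^ m := by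
    rw [← pow_mul, pow_eq_pow_mod _ h9, hkm, pow_one]
  show t ∈ _
  rw [ht']
  exact pow_mem ht m

end CfsgLib.Lie.Chev.Fischer
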