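import Cfsg.Agent.Lib.Lie.Chev.Tw.Fischer.Commutant
import Cfsg.Agent.Lib.Lie.Chev.Tw.Fischer.Outer
import Cfsg.Agent.Lib.Lie.Chev.Tw.Fischer.Emb
import Cfsg.Agent.Lib.Spor.Fi22Out.Out
import Cfsg.Agent.Lib.Spor.Fi22.O7.Iso
import Cfsg.Agent.Lib.Orth.Aut.OutOdd
import Cfsg.Agent.Lib.Orth.Centre

/-!
# Three classes of Fischer subgroups and of orthogonal subgroups in ²E₆(2)
-/

set_option autoImplicit false
set_option maxRecDepth 100000

namespace CfsgLib.Lie.Chev.Fischer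

open Cfsg.Lie
open Cfsg.Spor.Fi22 (Gen edges extra)
open CfsgLib.Lie.Chev
open scoped MatrixGroups

theorem exists_omega {K : Type*} [Field K] [Fintype K] (hK : Fintype.card K = 4) :
    ∃ (_ : CharP K 2) (w : K), w * w = w + 1 := by
  haveI : CharP K 2 := charP_of_card_eq_prime_pow (f := 2) (hK.trans rfl)
  classical
  obtain ⟨x, h0, h1⟩ : ∃ x : K, x ≠ 0 ∧ x ≠ 1 := by
    by_contra h
    push Not at h
    have hle : (Finset.univ : Finset K) ⊆ {0, 1} := fun x _ => by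
      by_cases hx : x = 0
      · simp [hx]
      · simp [h x hx]
    have h2 := (Finset.card_le_card hle).trans Finset.card_le_two
    rw [Finset.card_univ, hK] at h2
    omega
  have h4 := FiniteField.pow_card x
  rw [hK] at h4
  have h2 : (2 : K) = 0 := CharTwo.two_eq_zero
  refine ⟨‹_›, x, ?_⟩
  have h3 : x * ((x - 1) * (x * x + x + 1)) = 0 := by linear_combination h4
  rcases mul_eq_zero.1 h3 with h | h
  · exact absurd h h0
  rcases mul_eq_zero.1 h with h | h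
  · exact absurd (sub_eq_zero.1 h) h1
  · linear_combination h - (x + 1) * h2

/-- the subgroup on b, …, i -/
abbrev subO : Subgroup Cfsg.Spor.Fi22 :=
  (Subgroup.closure ({Cfsg.Spor.Fi22.b, Cfsg.Spor.Fi22.c, Cfsg.Spor.Fi22.d, Cfsg.Spor.Fi22.e,
    Cfsg.Spor.Fi22.f, Cfsg.Spor.Fi22.g, Cfsg.Spor.Fi22.h, Cfsg.Spor.Fi22.i} :
      Set (FreeGroup Gen))).map
    (PresentedGroup.mk (Cfsg.Spor.coxRelators edges ∪ {r | r ∈ extra}))

theorem xk_in {K : Type*} [Field K] [CharP K 2] {w : K} (hw : w * w = w + 1) {i : ℕ} (h1 : 1 ≤ i)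
    (h8 : i ≤ 8) : ∃ a : ↥subO, emb hw a = xk w i := by
  have key : ∀ x : Gen, FreeGroup.of x ∈ ({Cfsg.Spor.Fi22.b, Cfsg.Spor.Fi22.c, Cfsg.Spor.Fi22.d,
      Cfsg.Spor.Fi22.e, Cfsg.Spor.Fi22.f, Cfsg.Spor.Fi22.g, Cfsg.Spor.Fi22.h, Cfsg.Spor.Fi22.i} :
        Set (FreeGroup Gen)) → ∃ a : ↥subO, emb hw a = xk w (gidx x) := fun x hx =>
    ⟨⟨_, Subgroup.mem_map_of_mem _ (Subgroup.subset_closure hx)⟩, emb_of hw x⟩
  interval_cases i
  · exact key .b (by simp)
  · exact key .c (by simp)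
  · exact key .d (by simp)
  · exact key .e (by simp)
  · exact key .f (by simp)
  · exact key .g (by simp)
  · exact key .h (by simp)
  · exact key .i (by simp)

theorem finite_fi22 : Finite Cfsg.Spor.Fi22 :=
  Nat.finite_of_card_ne_zero (by rw [CfsgLib.Spor.Fi22.isFi22.2]; norm_num)

variable {K : Type*} [Field K] [Fintype K]

theorem three_fischer (hK : Fintype.card K = 4) :
    ∃ H : Fin 3 → Subgroup ↥(twistedE6 K 2),
      (∀ i, Cfsg.Spor.IsoFi22 (H i)) ∧
      ∀ i j, i ≠ j → ∀ g : ↥(twistedE6 K 2),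
        (H i).map (MulAut.conj g).toMonoidHom ≠ H j := by
  obtain ⟨_, w, hw⟩ := exists_omega hK
  obtain ⟨θ, hθ⟩ := Frob.exists_powEquiv (K := K) Nat.prime_two.isPrimePow (hK.trans rfl : Fintype.card K = 2 ^ 2)
  haveI := finite_fi22
  exact three_images hK (sq_inner CfsgLib.Spor.Fi22Out.card_out) (emb hw) (emb_injective hw)
    (emb_mem hw θ hθ) fun z hz g => commutant hw (fun i h1 h8 => by
      obtain ⟨a, ha⟩ := xk_in hw h1 h8
      rw [← ha]; exact hz a) g

theorem center_omega_seven :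
    Subgroup.center (Cfsg.Omega (ZMod 3) (Cfsg.quadFormOdd 3 (ZMod 3))) = ⊥ := by
  refine Subgroup.card_eq_one.1 (CfsgLib.Orth.card_center_omega_of_not
    CfsgLib.Spor.Fi22.O7.qf_nd (by simp) ?_)
  rintro ⟨g, hg, hm⟩
  have hd := Abelianization.commutator_subset_ker (Matrix.GeneralLinearGroup.det.comp
    (Cfsg.isometryGroup (ZMod 3) (Cfsg.quadFormOdd 3 (ZMod 3))).subtype) hg
  rw [MonoidHom.mem_ker, MonoidHom.comp_apply] at hd
  have hd' := congrArg Units.val hd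
  rw [Matrix.GeneralLinearGroup.val_det_apply, Units.val_one, Subgroup.subtype_apply, hm,
    Matrix.det_neg, Matrix.det_one] at hd'
  exact absurd hd' (by decide)

theorem three_omega_seven (hK : Fintype.card K = 4) :
    ∃ H : Fin 3 → Subgroup ↥(twistedE6 K 2),
      (∀ i, Nonempty ((H i) ≃* Cfsg.Omega (ZMod 3) (Cfsg.quadFormOdd 3 (ZMod 3)))) ∧
      ∀ i j, i ≠ j → ∀ g : ↥(twistedE6 K 2),
        (H i).map (MulAut.conj g).toMonoidHom ≠ H j := by
  obtain ⟨_, w, hw⟩ := exists_omega hK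
  obtain ⟨θ, hθ⟩ := Frob.exists_powEquiv (K := K) Nat.prime_two.isPrimePow (hK.trans rfl : Fintype.card K = 2 ^ 2)
  obtain ⟨e : ↥subO ≃* Cfsg.POmega (ZMod 3) (Cfsg.quadFormOdd 3 (ZMod 3))⟩ :=
    CfsgLib.Spor.Fi22.O7.iso_bcdefghi
  haveI := finite_fi22
  haveI : Fact (Nat.Prime 3) := ⟨Nat.prime_three⟩
  obtain ⟨eo⟩ := CfsgLib.Orth.out_odd_dim (F := ZMod 3) (p := 3) (f := 1) (m := 3) le_rfl
    (ZMod.card 3) (by norm_num) le_rfl
  have hcard : Nat.card (Cfsg.Out (Cfsg.POmega (ZMod 3) (Cfsg.quadFormOdd 3 (ZMod 3)))) = 2 := by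
    rw [Nat.card_congr eo.toEquiv, Nat.card_congr Multiplicative.toAdd, Nat.card_prod,
      Nat.card_zmod, Nat.card_zmod]
  have hsq : ∀ α : MulAut ↥subO, ∃ b, α * α = MulAut.conj b := fun α => by
    obtain ⟨b, hb⟩ := sq_inner hcard (MulAut.congr e α)
    refine ⟨e.symm b, MulEquiv.ext fun x => e.injective ?_⟩
    have h := DFunLike.congr_fun hb (e x)
    simp only [MulAut.mul_apply, MulAut.conj_apply, MulAut.congr_apply, MulEquiv.trans_apply,
      MulEquiv.symm_apply_apply] at h ⊢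
    rw [h, map_mul, map_mul, map_inv, MulEquiv.apply_symm_apply]
  obtain ⟨H, h1, h2⟩ := three_images hK hsq ((emb hw).comp subO.subtype)
    ((emb_injective hw).comp Subtype.val_injective) (fun a => emb_mem hw θ hθ a)
    fun z hz g => commutant hw (fun i h1 h8 => by
      obtain ⟨a, ha⟩ := xk_in hw h1 h8
      rw [← ha]; exact hz a) g
  refine ⟨H, fun i => ?_, h2⟩
  obtain ⟨f⟩ := h1 i
  exact ⟨f.trans (e.trans ((QuotientGroup.quotientMulEquivOfEq center_omega_seven).trans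
    QuotientGroup.quotientBot))⟩

end CfsgLib.Lie.Chev.Fischer
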