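import Mathlib.Data.Matrix.Mul
import Mathlib.Algebra.BigOperators.Fin
import Mathlib.Algebra.CharP.Two
import Mathlib.Data.Nat.Bitwise
import Mathlib.Algebra.Ring.GeomSum
import Mathlib.Tactic.LinearCombination

/-!
# Square matrices of size 78 over four elements packed into two numbers

The entry `(i, j)` sits at bit `624 i + 8 j`; a product is a sum of 78 products of a column by a row,
the fields of eight bits never overflowing.  A pair `(A, B)` stands for `A + w B` with
`w² = w + 1` in characteristic two.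
-/

set_option autoImplicit false
set_option maxRecDepth 100000

namespace CfsgLib.Lie.Chev.Fischer

/-- a packed matrix -/
abbrev PM := ℕ × ℕ

/-- ones at the first multiples of `s` -/
def maskN (s n : ℕ) : ℕ := (2 ^ (s * n) - 1) / (2 ^ s - 1)

theorem maskN_succ (s n : ℕ) (hs : 1 ≤ s) : maskN s (n + 1) = 1 + 2 ^ s * maskN s n := by
  have h2 : 2 ≤ 2 ^ s := le_trans (by norm_num) (Nat.pow_le_pow_right (by norm_num) hs)
  have key : ∀ n, (∑ i ∈ Finset.range n, (2 ^ s) ^ i) = maskN s n := fun n => by
    rw [maskN, pow_mul, Nat.geomSum_eq h2 n]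
  rw [← key, ← key, Finset.sum_range_succ', pow_zero, add_comm, Finset.mul_sum]
  simp [pow_succ']

theorem maskN_zero (s : ℕ) : maskN s 0 = 0 := by simp [maskN]

theorem bit_toNat (x : ℕ) : (x.testBit 0).toNat = x % 2 := by
  rcases Nat.mod_two_eq_zero_or_one x with h | h <;> simp [Nat.testBit_zero, h]

/-- the bits of a number at the first multiples of `s` -/
theorem and_maskN (s : ℕ) (hs : 1 ≤ s) : ∀ n x : ℕ,
    x &&& maskN s n = ∑ i ∈ Finset.range n, (x.testBit (s * i)).toNat * 2 ^ (s * i)
  | 0, x => by simp [maskN_zero]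
  | n + 1, x => by
    have ih := and_maskN s hs n (x >>> s)
    have hlt : (x.testBit 0).toNat < 2 ^ s :=
      lt_of_le_of_lt (Bool.toNat_le _) (Nat.one_lt_two_pow (by omega))
    have e : x &&& maskN s (n + 1) = 2 ^ s * ((x >>> s) &&& maskN s n) + (x.testBit 0).toNat := by
      apply Nat.eq_of_testBit_eq
      intro t
      rw [Nat.testBit_and, maskN_succ s n hs, add_comm 1,
        Nat.testBit_two_pow_mul_add _ (Nat.one_lt_two_pow (by omega)),
        Nat.testBit_two_pow_mul_add _ hlt]
      by_cases ht : t < s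
      · rw [if_pos ht, if_pos ht]
        cases t with
        | zero => cases h : x.testBit 0 <;> simp
        | succ t =>
          cases h : x.testBit 0 <;> simp [Nat.testBit_lt_two_pow (Nat.one_lt_two_pow (Nat.succ_ne_zero t))]
      · rw [if_neg ht, if_neg ht, Nat.testBit_and, Nat.testBit_shiftRight,
          show s + (t - s) = t by omega]
    rw [e, ih, Finset.sum_range_succ', Finset.mul_sum]
    congr 1
    · refine Finset.sum_congr rfl fun i _ => ?_
      rw [Nat.testBit_shiftRight, show s + s * i = s * (i + 1) by ring,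
        show s * (i + 1) = s + s * i by ring, pow_add]
      ring
    · simp

/-- the parity of a field -/
theorem testBit_fields : ∀ (n : ℕ) (f : ℕ → ℕ), (∀ t < n, f t < 256) → ∀ t < n,
    (∑ u ∈ Finset.range n, f u * 256 ^ u).testBit (8 * t) = decide (f t % 2 = 1)
  | 0, _, _, t, ht => absurd ht (Nat.not_lt_zero _)
  | n + 1, f, h, t, ht => by
    have e : ∑ u ∈ Finset.range (n + 1), f u * 256 ^ u =
        2 ^ 8 * (∑ u ∈ Finset.range n, f (u + 1) * 256 ^ u) + f 0 := by
      rw [Finset.sum_range_succ', Finset.mul_sum]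
      simp only [pow_zero, mul_one, add_left_inj]
      exact Finset.sum_congr rfl fun u _ => by rw [pow_succ']; ring
    rw [e, Nat.testBit_two_pow_mul_add _ (h 0 (Nat.succ_pos _))]
    cases t with
    | zero => rw [if_pos (by norm_num), Nat.mul_zero, Nat.testBit_zero]
    | succ t =>
      rw [if_neg (by omega), show 8 * (t + 1) - 8 = 8 * t by omega]
      exact testBit_fields n (fun u => f (u + 1)) (fun u hu => h _ (by omega)) t (by omega)

/-- a column spread over the rows -/
def colOf (A k : ℕ) : ℕ := (A >>> (8 * k)) &&& maskN 624 78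

/-- a row -/
def rowOf (A k : ℕ) : ℕ := (A >>> (624 * k)) &&& maskN 8 78

/-- the first part of a product -/
def accA (M N : PM) : ℕ → ℕ
  | 0 => 0
  | k + 1 => accA M N k + (colOf M.1 k * rowOf N.1 k + colOf M.2 k * rowOf N.2 k)

/-- the second part of a product -/
def accB (M N : PM) : ℕ → ℕ
  | 0 => 0
  | k + 1 => accB M N k + (colOf M.1 k * rowOf N.2 k + colOf M.2 k * rowOf N.1 k +
      colOf M.2 k * rowOf N.2 k)

/-- the product of packed matrices -/
def mulP (M N : PM) : PM := (accA M N 78 &&& maskN 8 6084, accB M N 78 &&& maskN 8 6084)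

/-- equality of packed matrices -/
def eqP (M N : PM) : Bool := Nat.beq M.1 N.1 && Nat.beq M.2 N.2

theorem eq_of_eqP {M N : PM} (h : eqP M N = true) : M = N := by
  simp only [eqP, Bool.and_eq_true] at h
  exact Prod.ext (Nat.eq_of_beq_eq_true h.1) (Nat.eq_of_beq_eq_true h.2)

/-- the packed identity matrix -/
def oneP : PM := (maskN 632 78, 0)

/-- the sum of packed matrices -/
def addP (M N : PM) : PM := (Nat.xor M.1 N.1, Nat.xor M.2 N.2)

theorem sum_range_prod {M : Type*} [AddCommMonoid M] (g : ℕ → M) :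
    ∑ u ∈ Finset.range 6084, g u = ∑ i ∈ Finset.range 78, ∑ j ∈ Finset.range 78, g (78 * i + j) := by
  have h : ∀ n, ∑ u ∈ Finset.range (78 * n), g u =
      ∑ i ∈ Finset.range n, ∑ j ∈ Finset.range 78, g (78 * i + j) := fun n => by
    induction n with
    | zero => simp
    | succ n ih => rw [Nat.mul_succ, Finset.sum_range_add, ih, Finset.sum_range_succ (n := n)]
  exact h 78

/-- an outer product as a sum over the fields -/
theorem outer_eq (A B k : ℕ) : colOf A k * rowOf B k = ∑ u ∈ Finset.range 6084,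
    (A.testBit (624 * (u / 78) + 8 * k)).toNat * (B.testBit (624 * k + 8 * (u % 78))).toNat *
      256 ^ u := by
  rw [colOf, rowOf, and_maskN 624 (by norm_num), and_maskN 8 (by norm_num), Finset.sum_mul_sum,
    sum_range_prod]
  refine Finset.sum_congr rfl fun i _ => Finset.sum_congr rfl fun j hj => ?_
  rw [Finset.mem_range] at hj
  rw [Nat.testBit_shiftRight, Nat.testBit_shiftRight, show (78 * i + j) / 78 = i by omega,
    show (78 * i + j) % 78 = j by omega, show 8 * k + 624 * i = 624 * i + 8 * k by ring,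
    show 2 ^ (624 * i) = 256 ^ (78 * i) by
      rw [show (256 : ℕ) = 2 ^ 8 by norm_num, ← pow_mul]; ring_nf,
    show 2 ^ (8 * j) = 256 ^ j by rw [show (256 : ℕ) = 2 ^ 8 by norm_num, ← pow_mul],
    pow_add]
  ring

/-- the number of coincidences in a field of the first part -/
def cntA (M N : PM) (n u : ℕ) : ℕ := ∑ k ∈ Finset.range n,
  ((M.1.testBit (624 * (u / 78) + 8 * k)).toNat * (N.1.testBit (624 * k + 8 * (u % 78))).toNat +
    (M.2.testBit (624 * (u / 78) + 8 * k)).toNat * (N.2.testBit (624 * k + 8 * (u % 78))).toNat)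

/-- the number of coincidences in a field of the second part -/
def cntB (M N : PM) (n u : ℕ) : ℕ := ∑ k ∈ Finset.range n,
  ((M.1.testBit (624 * (u / 78) + 8 * k)).toNat * (N.2.testBit (624 * k + 8 * (u % 78))).toNat +
    (M.2.testBit (624 * (u / 78) + 8 * k)).toNat * (N.1.testBit (624 * k + 8 * (u % 78))).toNat +
    (M.2.testBit (624 * (u / 78) + 8 * k)).toNat * (N.2.testBit (624 * k + 8 * (u % 78))).toNat)

theorem accA_eq (M N : PM) : ∀ n, accA M N n = ∑ u ∈ Finset.range 6084, cntA M N n u * 256 ^ u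
  | 0 => by simp [accA, cntA]
  | n + 1 => by
    rw [accA, accA_eq M N n, outer_eq, outer_eq, ← Finset.sum_add_distrib, ← Finset.sum_add_distrib]
    refine Finset.sum_congr rfl fun u _ => ?_
    simp only [cntA, Finset.sum_range_succ]
    ring

theorem accB_eq (M N : PM) : ∀ n, accB M N n = ∑ u ∈ Finset.range 6084, cntB M N n u * 256 ^ u
  | 0 => by simp [accB, cntB]
  | n + 1 => by
    rw [accB, accB_eq M N n, outer_eq, outer_eq, outer_eq, ← Finset.sum_add_distrib,
      ← Finset.sum_add_distrib, ← Finset.sum_add_distrib]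
    refine Finset.sum_congr rfl fun u _ => ?_
    simp only [cntB, Finset.sum_range_succ]
    ring

theorem cnt_lt (M N : PM) (u : ℕ) : cntA M N 78 u < 256 ∧ cntB M N 78 u < 256 := by
  have hb : ∀ a b : Bool, a.toNat * b.toNat ≤ 1 := by intro a b; cases a <;> cases b <;> simp
  constructor
  · refine lt_of_le_of_lt (Finset.sum_le_sum (g := fun _ => 2) fun k _ =>
      Nat.add_le_add (hb _ _) (hb _ _)) (by simp)
  · refine lt_of_le_of_lt (Finset.sum_le_sum (g := fun _ => 3) fun k _ =>
      Nat.add_le_add (Nat.add_le_add (hb _ _) (hb _ _)) (hb _ _)) (by simp)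

theorem mask_bit (x : ℕ) {u : ℕ} (hu : u < 6084) :
    (x &&& maskN 8 6084).testBit (8 * u) = x.testBit (8 * u) := by
  have e : ∑ i ∈ Finset.range 6084, (x.testBit (8 * i)).toNat * 2 ^ (8 * i) =
      ∑ i ∈ Finset.range 6084, (x.testBit (8 * i)).toNat * 256 ^ i :=
    Finset.sum_congr rfl fun i _ => by rw [show (256 : ℕ) = 2 ^ 8 by norm_num, ← pow_mul]
  rw [and_maskN 8 (by norm_num), e,
    testBit_fields 6084 (fun i => (x.testBit (8 * i)).toNat)
      (fun t _ => lt_of_le_of_lt (Bool.toNat_le _) (by norm_num)) u hu]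
  cases x.testBit (8 * u) <;> simp

variable {R : Type*} [CommRing R] [CharP R 2] (w : R)

/-- a bit as an element -/
def bz (b : Bool) : R := if b then 1 else 0

theorem bz_xor (a b : Bool) : (bz (a ^^ b) : R) = bz a + bz b := by
  cases a <;> cases b <;> simp [bz, CharTwo.add_self_eq_zero]

theorem bz_parity (x : ℕ) : (bz (decide (x % 2 = 1)) : R) = (x : R) := by
  conv_rhs => rw [← Nat.div_add_mod x 2]
  rcases Nat.mod_two_eq_zero_or_one x with h | h <;> simp [bz, h, CharTwo.two_eq_zero]

theorem bz_toNat (b : Bool) : ((b.toNat : ℕ) : R) = bz b := by cases b <;> simp [bz]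

/-- the matrix of a packed matrix -/
def toM (M : PM) : Matrix (Fin 78) (Fin 78) R :=
  Matrix.of fun i j =>
    bz (M.1.testBit (624 * i.1 + 8 * j.1)) + w * bz (M.2.testBit (624 * i.1 + 8 * j.1))

theorem toM_mulP (hw : w * w = w + 1) (M N : PM) : toM w (mulP M N) = toM w M * toM w N := by
  ext i j
  have hi := i.isLt
  have hj := j.isLt
  have hu : 78 * i.1 + j.1 < 6084 := by omega
  have e8 : 624 * i.1 + 8 * j.1 = 8 * (78 * i.1 + j.1) := by ring
  simp only [toM, Matrix.of_apply, mulP, Matrix.mul_apply]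
  rw [e8, mask_bit _ hu, mask_bit _ hu, accA_eq, accB_eq,
    testBit_fields _ _ (fun u _ => (cnt_lt M N u).1) _ hu,
    testBit_fields _ _ (fun u _ => (cnt_lt M N u).2) _ hu, bz_parity, bz_parity]
  simp only [cntA, cntB, show (78 * i.1 + j.1) / 78 = i.1 by omega,
    show (78 * i.1 + j.1) % 78 = j.1 by omega, Nat.cast_sum, Nat.cast_add, Nat.cast_mul, bz_toNat,
    Finset.mul_sum, ← Finset.sum_add_distrib, Finset.sum_range]
  refine Finset.sum_congr rfl fun k _ => ?_
  linear_combination (-(bz (M.2.testBit (624 * i.1 + 8 * k.1)) *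
    bz (N.2.testBit (624 * k.1 + 8 * j.1)))) * hw

theorem one_bit {i j : ℕ} (hi : i < 78) (hj : j < 78) :
    (maskN 632 78).testBit (624 * i + 8 * j) = decide (i = j) := by
  have key : ∀ n t : ℕ, (maskN 632 n).testBit t = decide (t % 632 = 0 ∧ t / 632 < n) := by
    intro n
    induction n with
    | zero => intro t; simp [maskN_zero]
    | succ n ih =>
      intro t
      rw [maskN_succ 632 n (by norm_num), add_comm 1,
        Nat.testBit_two_pow_mul_add _ (Nat.one_lt_two_pow (by norm_num))]
      by_cases ht : t < 632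
      · rw [if_pos ht]
        cases t with
        | zero => simp
        | succ t => simp [Nat.mod_eq_of_lt ht, Nat.testBit_lt_two_pow (Nat.one_lt_two_pow (Nat.succ_ne_zero t))]
      · rw [if_neg ht, ih, decide_eq_decide]
        omega
  rw [key, decide_eq_decide]
  omega

theorem toM_oneP : toM w oneP = 1 := by
  ext i j
  simp only [toM, oneP, Matrix.of_apply, one_bit i.2 j.2, Nat.zero_testBit, bz, Matrix.one_apply,
    Fin.ext_iff, decide_eq_true_eq, Bool.false_eq_true, if_false, mul_zero, add_zero]

theorem toM_addP (M N : PM) : toM w (addP M N) = toM w M + toM w N := by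
  ext i j
  have hx : ∀ a b : ℕ, Nat.xor a b = a ^^^ b := fun _ _ => rfl
  simp only [toM, addP, Matrix.of_apply, Matrix.add_apply, hx, Nat.testBit_xor, bz_xor]
  ring

end CfsgLib.Lie.Chev.Fischer
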