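import Cfsg.Agent.Lib.Lie.Chev.Tw.Fischer.Pack
import Cfsg.Agent.Lib.Lie.Chev.Tw.E6Gp

/-!
# Packed matrices of elements of E₆ over four elements
-/

set_option autoImplicit false
set_option maxRecDepth 100000

namespace CfsgLib.Lie.Chev.Fischer

open Cfsg.Lie
open CfsgLib.Lie.Chev
open scoped MatrixGroups

/-- the coordinates as numbers -/
def idxE : chevE6.Idx ≃ Fin 78 := finSumFinEquiv

theorem idxE_val (b : chevE6.Idx) : (idxE b).val = pos chevE6 b := by
  rcases b with i | s <;> rfl

/-- the first bit of an element code -/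
def bitA (c : ℕ) : Bool := c == 1 || c == 3

/-- the second bit of an element code -/
def bitB (c : ℕ) : Bool := c == 2 || c == 3

/-- the code of the square -/
def sqC (c : ℕ) : ℕ := if c == 2 then 3 else if c == 3 then 2 else c

/-- whether an integer is odd -/
def oddI (c : ℤ) : Bool := decide (c % 2 = 1)

/-- the odd entries of a column -/
def colP (L : List (ℕ × ℤ)) (j : ℕ) : ℕ :=
  match L with
  | [] => 0
  | e :: L => Nat.xor (bif Nat.blt e.1 78 && oddI e.2 then 2 ^ (624 * e.1 + 8 * j) else 0) (colP L j)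

/-- the odd entries of a power of a root operator -/
noncomputable def powP (r k : ℕ) : ℕ → ℕ
  | 0 => 0
  | j + 1 => Nat.xor (colP (actF fastE6 r k j) j) (powP r k j)

/-- the packed matrix of a root element -/
noncomputable def rootP (r c : ℕ) : PM :=
  (Nat.xor (maskN 632 78) (Nat.xor (bif bitA c then powP r 1 78 else 0)
      (Nat.xor (bif bitA (sqC c) then powP r 2 78 else 0) (powP r 3 78))),
    Nat.xor (bif bitB c then powP r 1 78 else 0) (bif bitB (sqC c) then powP r 2 78 else 0))

theorem oddI_add (a b : ℤ) : oddI (a + b) = (oddI a ^^ oddI b) := by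
  rcases Int.emod_two_eq_zero_or_one a with h | h <;>
    rcases Int.emod_two_eq_zero_or_one b with h' | h' <;> simp [oddI, Int.add_emod, h, h']

theorem colP_bit {i j j' : ℕ} (hi : i < 78) (hj : j < 78) (hj' : j' < 78) :
    ∀ L : List (ℕ × ℤ),
      (colP L j).testBit (624 * i + 8 * j') = (decide (j = j') && oddI (coef L i))
  | [] => by simp [colP, oddI]
  | e :: L => by
    have hx : ∀ a b : ℕ, Nat.xor a b = a ^^^ b := fun _ _ => rfl
    have h0 : (bif Nat.blt e.1 78 && oddI e.2 then 2 ^ (624 * e.1 + 8 * j) else 0).testBit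
        (624 * i + 8 * j') = (decide (j = j') && oddI (if e.1 = i then e.2 else 0)) := by
      by_cases hlt : e.1 < 78
      · have hb : Nat.blt e.1 78 = true := by rw [Nat.blt_eq]; exact hlt
        by_cases he : e.1 = i
        · subst he
          cases ho : oddI e.2
          · simp [hb, ho]
          · simp only [hb, Bool.and_true, cond_true, if_true, ho, Nat.testBit_two_pow,
              decide_eq_decide]
            omega
        · cases ho : oddI e.2
          · simp [hb, he, oddI]
          · simp [hb, he, oddI, Nat.testBit_two_pow]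
            omega
      · have hb : Nat.blt e.1 78 = false := by simpa [← Bool.not_eq_true, Nat.blt_eq] using hlt
        have he : e.1 ≠ i := by omega
        simp [hb, he, oddI]
    rw [colP, hx, Nat.testBit_xor, colP_bit hi hj hj' L, coef_cons, oddI_add, h0]
    cases decide (j = j') <;> cases oddI (coef L i) <;> simp

theorem powP_bit (r k : ℕ) {i j' : ℕ} (hi : i < 78) (hj' : j' < 78) : ∀ n, n ≤ 78 →
    (powP r k n).testBit (624 * i + 8 * j') =
      (decide (j' < n) && oddI (coef (actF fastE6 r k j') i))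
  | 0, _ => by simp [powP]
  | n + 1, hn => by
    have hx : ∀ a b : ℕ, Nat.xor a b = a ^^^ b := fun _ _ => rfl
    rw [powP, hx, Nat.testBit_xor, colP_bit hi (by omega) hj', powP_bit r k hi hj' n (by omega)]
    by_cases h : n = j'
    · subst h; simp
    · simp [h, show j' < n + 1 ↔ j' < n by omega]

variable {K : Type*} [Field K]

/-- the element of a code -/
def tv (w : K) (c : ℕ) : K := bz (bitA c) + w * bz (bitB c)

/-- an element has the given packed matrix -/
def Rep (w : K) (g : GL chevE6.Idx K) (M : PM) : Prop :=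
  Matrix.reindexAlgEquiv K K idxE (g : Matrix chevE6.Idx chevE6.Idx K) = toM w M

variable [CharP K 2] {w : K}

theorem cast_int (c : ℤ) : (c : K) = bz (oddI c) := by
  conv_lhs => rw [← Int.mul_ediv_add_emod c 2]
  rcases Int.emod_two_eq_zero_or_one c with h | h <;>
    simp [oddI, h, bz, CharTwo.two_eq_zero]

theorem bz_and (a b : Bool) : (bz (a && b) : K) = bz a * bz b := by
  cases a <;> cases b <;> simp [bz]

theorem tv_sq (hw : w * w = w + 1) (c : ℕ) : tv w (sqC c) = tv w c * tv w c := by
  have h2 : (2 : K) = 0 := CharTwo.two_eq_zero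
  unfold tv sqC bitA bitB
  by_cases h : c = 2
  · subst h
    simp [bz]
    linear_combination -hw
  by_cases h' : c = 3
  · subst h'
    simp [bz]
    linear_combination -hw - w * h2 - h2
  by_cases h'' : c = 1
  · subst h''
    simp [bz]
  · simp [bz, h, h', h'']

theorem tv_cube (hw : w * w = w + 1) {c : ℕ} (hc : c = 1 ∨ c = 2 ∨ c = 3) :
    tv w c * tv w c * tv w c = 1 := by
  have h2 : (2 : K) = 0 := CharTwo.two_eq_zero
  rcases hc with rfl | rfl | rfl <;> simp [tv, bitA, bitB, bz]
  · linear_combination (w + 1) * hw + w * h2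
  · linear_combination (w + 4) * hw + (4 * w + 2) * h2

theorem rep_root (hw : w * w = w + 1) (r : Fin chevE6.nroots) {c : ℕ} (hc : c = 1 ∨ c = 2 ∨ c = 3)
    {M : PM} (h : eqP (rootP r.val c) M = true) : Rep w (TE6.C.G.xu r (tv w c)) M := by
  obtain rfl := eq_of_eqP h
  unfold Rep
  ext i j
  rw [Matrix.reindexAlgEquiv_apply, Matrix.reindex_apply, Matrix.submatrix_apply, TE6.C.G.coe_xu,
    xg_apply]
  have hi : pos chevE6 (idxE.symm i) = i.val := by rw [← idxE_val, Equiv.apply_symm_apply]
  have hj : pos chevE6 (idxE.symm j) = j.val := by rw [← idxE_val, Equiv.apply_symm_apply]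
  have hb : j.val < chevE6.rank + chevE6.nroots := hj ▸ pos_lt chevE6 _
  have hr := rowsOK chkRows_E6
  rw [hi, hj, ← actF_eq hr r.isLt (k := 1) le_rfl (by norm_num) hb,
    ← actF_eq hr r.isLt (k := 2) (by norm_num) (by norm_num) hb,
    ← actF_eq hr r.isLt (k := 3) (by norm_num) le_rfl hb]
  have hx : ∀ a b : ℕ, Nat.xor a b = a ^^^ b := fun _ _ => rfl
  have hcnd : ∀ (b : Bool) (x t : ℕ), (bif b then x else 0).testBit t = (b && x.testBit t) := by
    intro b x t; cases b <;> simp
  simp only [toM, Matrix.of_apply, rootP, hx, Nat.testBit_xor, hcnd,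
    powP_bit _ _ i.isLt j.isLt 78 le_rfl, one_bit i.isLt j.isLt, j.isLt, decide_true, Bool.true_and,
    bz_xor, bz_and, cast_int, pow_succ, pow_zero, one_mul, ← tv_sq hw]
  have e0 : (if idxE.symm i = idxE.symm j then (1 : K) else 0) = bz (decide (i.val = j.val)) := by
    simp [bz, idxE.symm.injective.eq_iff, Fin.ext_iff]
  rw [e0]
  have h3 : tv w (sqC c) * tv w c = 1 := by rw [tv_sq hw, tv_cube hw hc]
  simp only [tv] at h3 ⊢
  linear_combination (bz (oddI (coef (actF fastE6 r.val 3 j.val) i.val))) * h3

theorem Rep.mul (hw : w * w = w + 1) {g h : GL chevE6.Idx K} {A B M : PM} (hg : Rep w g A)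
    (hh : Rep w h B) (e : eqP (mulP A B) M = true) : Rep w (g * h) M := by
  obtain rfl := eq_of_eqP e
  unfold Rep at *
  rw [toM_mulP w hw, ← hg, ← hh, Units.val_mul, map_mul]

theorem Rep.one : Rep w (1 : GL chevE6.Idx K) oneP := by
  rw [Rep, toM_oneP, Units.val_one, map_one]

omit [CharP K 2] in
theorem Rep.unique {g h : GL chevE6.Idx K} {A : PM} (hg : Rep w g A) (hh : Rep w h A) : g = h :=
  Units.ext ((Matrix.reindexAlgEquiv K K idxE).injective (hg.trans hh.symm))

end CfsgLib.Lie.Chev.Fischer
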